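import Mathlib.LinearAlgebra.ExteriorPower.Basis
import Mathlib.RingTheory.Flat.EquationalCriterion

/-!
Exterior powers of flat modules are flat (equational criterion).
-/

set_option autoImplicit false

namespace Groth.Agent.KahFlat

universe u v

open Finsupp

variable {A : Type u} [CommRing A] (n : ℕ) {M : Type v} [AddCommGroup M] [Module A M]

/-- `Φ σ` sends the generator `m` to `σ m₁ ∧ ⋯ ∧ σ mₙ`. -/
noncomputable def wedgeAt {F : Type*} [AddCommGroup F] [Module A F] (σ : M → F) :
    ((Fin n → M) →₀ A) →ₗ[A] ⋀[A]^n F :=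
  Finsupp.linearCombination A (fun m => exteriorPower.ιMulti A n (σ ∘ m))

/-- An element of the relation module is witnessed by finitely many linear relations of `M`. -/
def LinWitness (η : (Fin n → M) →₀ A) : Prop :=
  ∃ Lin : Finset (M →₀ A), (∀ c ∈ Lin, linearCombination A (id : M → M) c = 0) ∧
    ∀ (k : ℕ) (σ : M → (Fin k →₀ A)), (∀ c ∈ Lin, linearCombination A σ c = 0) → wedgeAt n σ η = 0

variable {n}

theorem linWitness_of_mem_ker {η : (Fin n → M) →₀ A}
    (h : η ∈ LinearMap.ker (Finsupp.linearCombination A (fun m => exteriorPower.ιMulti A n (M := M) m))) :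
    LinWitness n η := by
  classical
  have hker := (exteriorPower.presentation A n M).toIsPresentation.ker_π
  change η ∈ LinearMap.ker (exteriorPower.presentation A n M).π at h
  rw [hker] at h
  induction h using Submodule.span_induction with
  | mem x hx =>
    obtain ⟨r, rfl⟩ := hx
    cases r with
    | add m i x y =>
      refine ⟨{single x 1 + single y 1 - single (x + y) 1}, by simp, fun k σ hσ => ?_⟩
      have h1 := hσ _ (Finset.mem_singleton_self _)
      simp only [map_sub, map_add, linearCombination_single, one_smul, sub_eq_zero] at h1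
      simp [wedgeAt, Function.comp_update, ← h1]
    | smul m i r x =>
      refine ⟨{single (r • x) 1 - r • single x 1}, by simp, fun k σ hσ => ?_⟩
      have h1 := hσ _ (Finset.mem_singleton_self _)
      simp only [map_sub, map_smul, linearCombination_single, one_smul, sub_eq_zero] at h1
      simp [wedgeAt, Function.comp_update, h1]
    | alt m i j hm hij =>
      refine ⟨∅, by simp, fun k σ _ => ?_⟩
      have h0 := AlternatingMap.map_eq_zero_of_eq (exteriorPower.ιMulti A n) (σ ∘ m) (congrArg σ hm) hij
      simpa [wedgeAt] using h0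
  | zero => exact ⟨∅, by simp, fun k σ _ => map_zero _⟩
  | add x y _ _ hx hy =>
    obtain ⟨L₁, h₁, g₁⟩ := hx
    obtain ⟨L₂, h₂, g₂⟩ := hy
    refine ⟨L₁ ∪ L₂, fun c hc => (Finset.mem_union.1 hc).elim (h₁ c) (h₂ c), fun k σ hσ => ?_⟩
    rw [map_add, g₁ k σ fun c hc => hσ c (Finset.mem_union_left _ hc),
      g₂ k σ fun c hc => hσ c (Finset.mem_union_right _ hc), add_zero]
  | smul r x _ hx =>
    obtain ⟨L, h₁, g₁⟩ := hx
    exact ⟨L, h₁, fun k σ hσ => by rw [map_smul, g₁ k σ hσ, smul_zero]⟩

theorem linearCombination_extend {F : Type*} [AddCommGroup F] [Module A F] {S : Finset M}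
    (g : {m // m ∈ S} → F) (g' : M → F) (hg : ∀ s : {m // m ∈ S}, g' s.1 = g s)
    (c : M →₀ A) (hc : ∀ m ∈ c.support, m ∈ S) :
    linearCombination A g (c.subtypeDomain (· ∈ S)) = linearCombination A g' c := by
  rw [linearCombination_apply, linearCombination_apply,
    ← Finsupp.sum_subtypeDomain_index (h := fun a b => b • g' a) hc]
  simp only [hg]

theorem flat_exteriorPower (n : ℕ) [Module.Flat A M] : Module.Flat A (⋀[A]^n M) := by
  classical
  refine Module.Flat.of_forall_isTrivialRelation fun {l f x} hfx => ?_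
  let π := Finsupp.linearCombination A (fun m => exteriorPower.ιMulti A n (M := M) m)
  have hπ : Function.Surjective π := (exteriorPower.presentation A n M).toIsPresentation.surjective_π
  choose η hη using fun i => hπ (x i)
  have hk : (∑ i, f i • η i) ∈ LinearMap.ker π := by simp [LinearMap.mem_ker, map_sum, map_smul, hη, hfx]
  obtain ⟨Lin, hLin, hg⟩ := linWitness_of_mem_ker hk
  let S : Finset M := (Finset.univ.biUnion fun i : Fin l => (η i).support.biUnion fun m => Finset.univ.image m) ∪
    Lin.biUnion Finsupp.support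
  have hSm : ∀ i, ∀ m ∈ (η i).support, ∀ j, m j ∈ S := fun i m hm j =>
    Finset.mem_union_left _ (Finset.mem_biUnion.2 ⟨i, Finset.mem_univ _, Finset.mem_biUnion.2 ⟨m, hm,
      Finset.mem_image.2 ⟨j, Finset.mem_univ _, rfl⟩⟩⟩)
  have hSc : ∀ c ∈ Lin, ∀ m ∈ c.support, m ∈ S := fun c hc m hm =>
    Finset.mem_union_right _ (Finset.mem_biUnion.2 ⟨c, hc, hm⟩)
  let xmap : ({m // m ∈ S} →₀ A) →ₗ[A] M := linearCombination A Subtype.val
  let fmap : ({c // c ∈ Lin} →₀ A) →ₗ[A] ({m // m ∈ S} →₀ A) :=
    linearCombination A fun c => c.1.subtypeDomain (· ∈ S)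
  have hxf : xmap ∘ₗ fmap = 0 := by
    refine Finsupp.lhom_ext fun c b => ?_
    simp only [LinearMap.comp_apply, fmap, linearCombination_single, map_smul, LinearMap.zero_apply]
    rw [linearCombination_extend Subtype.val id (fun _ => rfl) c.1 (hSc c.1 c.2), hLin c.1 c.2, smul_zero]
  obtain ⟨k, a, y, hxy, haf⟩ := Module.Flat.exists_factorization_of_comp_eq_zero_of_free hxf
  let σ : M → (Fin k →₀ A) := fun m => if h : m ∈ S then a (single ⟨m, h⟩ 1) else 0
  have hσs : ∀ s : {m // m ∈ S}, σ s.1 = a (single s 1) := fun s => dif_pos s.2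
  have ha : a = linearCombination A (fun s => a (single s 1)) := by
    refine Finsupp.lhom_ext fun s b => ?_
    rw [linearCombination_single, ← map_smul, smul_single, smul_eq_mul, mul_one]
  have hσ : ∀ c ∈ Lin, linearCombination A σ c = 0 := fun c hc => by
    rw [← linearCombination_extend _ σ hσs c (hSc c hc), ← ha]
    simpa [fmap] using LinearMap.congr_fun haf (single ⟨c, hc⟩ 1)
  have hyσ : ∀ m ∈ S, y (σ m) = m := fun m hm => by
    rw [show σ m = a (single ⟨m, hm⟩ 1) from dif_pos hm, ← LinearMap.comp_apply, ← hxy]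
    simp [xmap]
  have hmap : ∀ i, exteriorPower.map n y (wedgeAt n σ (η i)) = x i := fun i => by
    rw [← hη i, wedgeAt, linearCombination_apply, map_finsuppSum]
    simp only [π, linearCombination_apply]
    refine Finsupp.sum_congr fun m hm => ?_
    rw [map_smul, exteriorPower.map_apply_ιMulti]
    congr 2
    exact funext fun j => hyσ _ (hSm i m hm j)
  have hz : ∑ i, f i • wedgeAt n σ (η i) = 0 := by
    simpa [map_sum, map_smul] using hg k σ hσ
  obtain ⟨k', b, w, hb, hfb⟩ := Module.Flat.isTrivialRelation_of_sum_smul_eq_zero hz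
  refine ⟨k', b, fun j => exteriorPower.map n y (w j), fun i => ?_, hfb⟩
  rw [← hmap i, show wedgeAt n σ (η i) = _ from hb i, map_sum]
  simp

end Groth.Agent.KahFlat
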