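import Mathlib
import Groth.Prelude.Def_Smoothing
import Groth.Agent.Popescu.Main
import Groth.Agent.SerreReg.Descent
import Groth.Agent.S2692

/-!
Kähler differentials of ind-smooth algebras over a field are flat; regular algebras over perfect
fields are geometrically regular; `Ω_{A/ℤ}` is flat for regular Noetherian rings of characteristic `p`.
-/

set_option autoImplicit false
set_option linter.style.haveILetI false

namespace Groth.Agent.KahFlat

universe u

open Finsupp TensorProduct

section

variable {k A : Type u} [Field k] [CommRing A] [Algebra k A]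

/-- The natural map `(S →₀ S) → (A →₀ A)`. -/
noncomputable def pushSub (S : Subalgebra k A) : (S →₀ S) →+ (A →₀ A) :=
  (Finsupp.mapDomain.addMonoidHom (Subtype.val : S → A)).comp
    (Finsupp.mapRange.addMonoidHom S.val.toRingHom.toAddMonoidHom)

theorem pushSub_single (S : Subalgebra k A) (a b : S) :
    pushSub S (single a b) = single (a : A) (b : A) := by
  simp [pushSub]

theorem pushSub_injective (S : Subalgebra k A) : Function.Injective (pushSub S) :=
  (Finsupp.mapDomain_injective Subtype.val_injective).comp
    (Finsupp.mapRange_injective _ (map_zero _) Subtype.val_injective)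

theorem pushSub_smul (S : Subalgebra k A) (r : S) (η : S →₀ S) :
    pushSub S (r • η) = (r : A) • pushSub S η := by
  induction η using Finsupp.induction_linear with
  | zero => simp
  | add x y hx hy => simp only [smul_add, map_add, hx, hy]
  | single a b =>
    rw [smul_single, smul_eq_mul, pushSub_single, pushSub_single, smul_single, smul_eq_mul]
    rfl

theorem exists_pushSub (S : Subalgebra k A) (η : A →₀ A) (h : ∀ a ∈ η.support, a ∈ S ∧ η a ∈ S) :
    ∃ η' : S →₀ S, pushSub S η' = η := by
  classical
  let G : A → S := fun b => if hb : b ∈ S then ⟨b, hb⟩ else 0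
  refine ⟨η.sum fun a b => single (G a) (G b), ?_⟩
  rw [map_finsuppSum]
  conv_rhs => rw [← Finsupp.sum_single η]
  refine Finsupp.sum_congr fun a ha => ?_
  simp [pushSub_single, G, (h a ha).1, (h a ha).2]

theorem exists_finset_kerTotal (η : A →₀ A) (hη : η ∈ KaehlerDifferential.kerTotal k A) :
    ∃ T : Finset A, ∀ S : Subalgebra k A, (T : Set A) ⊆ S →
      ∃ η' ∈ KaehlerDifferential.kerTotal k S, pushSub S η' = η := by
  classical
  induction hη using Submodule.span_induction with
  | mem x hx =>
    rcases hx with (⟨⟨a, b⟩, rfl⟩ | ⟨⟨a, b⟩, rfl⟩) | ⟨r, rfl⟩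
    · refine ⟨{a, b}, fun S hS => ?_⟩
      let a' : S := ⟨a, hS (by simp)⟩
      let b' : S := ⟨b, hS (by simp)⟩
      refine ⟨single a' 1 + single b' 1 - single (a' + b') 1,
        Submodule.subset_span (Or.inl (Or.inl ⟨(a', b'), rfl⟩)), ?_⟩
      simp [map_sub, map_add, pushSub_single, a', b']
    · refine ⟨{a, b}, fun S hS => ?_⟩
      let a' : S := ⟨a, hS (by simp)⟩
      let b' : S := ⟨b, hS (by simp)⟩
      refine ⟨single b' a' + single a' b' - single (a' * b') 1,
        Submodule.subset_span (Or.inl (Or.inr ⟨(a', b'), rfl⟩)), ?_⟩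
      simp [map_sub, map_add, pushSub_single, a', b']
    · refine ⟨∅, fun S _ => ⟨single (algebraMap k S r) 1, Submodule.subset_span (Or.inr ⟨r, rfl⟩), ?_⟩⟩
      simp [pushSub_single]
  | zero => exact ⟨∅, fun S _ => ⟨0, zero_mem _, map_zero _⟩⟩
  | add x y _ _ hx hy =>
    obtain ⟨T₁, h₁⟩ := hx
    obtain ⟨T₂, h₂⟩ := hy
    refine ⟨T₁ ∪ T₂, fun S hS => ?_⟩
    rw [Finset.coe_union, Set.union_subset_iff] at hS
    obtain ⟨x', hx', rfl⟩ := h₁ S hS.1
    obtain ⟨y', hy', rfl⟩ := h₂ S hS.2
    exact ⟨x' + y', add_mem hx' hy', map_add _ _ _⟩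
  | smul r x _ hx =>
    obtain ⟨T₁, h₁⟩ := hx
    refine ⟨insert r T₁, fun S hS => ?_⟩
    rw [Finset.coe_insert, Set.insert_subset_iff] at hS
    obtain ⟨x', hx', rfl⟩ := h₁ S hS.2
    exact ⟨(⟨r, hS.1⟩ : S) • x', Submodule.smul_mem _ _ hx', pushSub_smul S _ _⟩

theorem lc_pushSub (S : Subalgebra k A) (η : S →₀ S) :
    linearCombination A (KaehlerDifferential.D k A) (pushSub S η) =
      KaehlerDifferential.map k k S A (linearCombination S (KaehlerDifferential.D k S) η) := by
  induction η using Finsupp.induction_linear with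
  | zero => simp
  | add x y hx hy => simp only [map_add, hx, hy]
  | single a b =>
    rw [pushSub_single, linearCombination_single, linearCombination_single, map_smul,
      KaehlerDifferential.map_D, ← algebraMap_smul A b]
    rfl

/-- Kähler differentials of an ind-smooth algebra over a field are flat. -/
theorem flat_kaehler_of_indSmooth (h : Smoothing.IndSmooth k A) :
    Module.Flat A (KaehlerDifferential k A) := by
  classical
  refine Module.Flat.of_forall_isTrivialRelation fun {l f x} hfx => ?_
  choose η hη using fun i => KaehlerDifferential.linearCombination_surjective k A (x i)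
  have hk : (∑ i, f i • η i) ∈ KaehlerDifferential.kerTotal k A := by
    rw [← KaehlerDifferential.kerTotal_eq, LinearMap.mem_ker]
    simp [map_sum, map_smul, hη, hfx]
  obtain ⟨T, hT⟩ := exists_finset_kerTotal _ hk
  let T' : Finset A := T ∪ Finset.univ.image f ∪
    Finset.univ.biUnion fun i => (η i).support ∪ (η i).support.image (η i)
  let S : Subalgebra k A := Algebra.adjoin k (T' : Set A)
  have hS : (T' : Set A) ⊆ S := Algebra.subset_adjoin
  haveI : Algebra.FiniteType k S := (Subalgebra.fg_iff_finiteType S).1 ⟨T', rfl⟩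
  haveI : Algebra.FinitePresentation k S := Algebra.FinitePresentation.of_finiteType.1 inferInstance
  have hfS : ∀ i, f i ∈ S := fun i => hS (by simp [T'])
  have hηS : ∀ i, ∀ a ∈ (η i).support, a ∈ S ∧ η i a ∈ S := fun i a ha =>
    ⟨hS (Finset.mem_union_right _ (Finset.mem_biUnion.2 ⟨i, Finset.mem_univ _, Finset.mem_union_left _ ha⟩)),
      hS (Finset.mem_union_right _ (Finset.mem_biUnion.2 ⟨i, Finset.mem_univ _,
        Finset.mem_union_right _ (Finset.mem_image.2 ⟨a, ha, rfl⟩)⟩))⟩
  choose η' hη' using fun i => exists_pushSub S (η i) (hηS i)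
  obtain ⟨ν, hν, hνη⟩ := hT S fun a ha => hS (by simp [T', Finset.mem_coe.1 ha])
  have hν' : ν = ∑ i, (⟨f i, hfS i⟩ : S) • η' i := pushSub_injective S (by
    rw [hνη, map_sum]
    exact Finset.sum_congr rfl fun i _ => by rw [pushSub_smul, hη'])
  rw [← KaehlerDifferential.kerTotal_eq, LinearMap.mem_ker, hν', map_sum] at hν
  simp only [map_smul] at hν
  obtain ⟨B, _, _, hB, g, hBA, hgh⟩ := h S inferInstance S.val
  haveI := hB
  letI : Algebra S B := g.toRingHom.toAlgebra
  haveI : IsScalarTower k S B := IsScalarTower.of_algebraMap_eq fun r => (g.commutes r).symm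
  letI : Algebra B A := hBA.toRingHom.toAlgebra
  haveI : IsScalarTower k B A := IsScalarTower.of_algebraMap_eq fun r => (hBA.commutes r).symm
  haveI : IsScalarTower S B A := IsScalarTower.of_algebraMap_eq fun s =>
    (AlgHom.congr_fun hgh s).symm
  let z : Fin l → KaehlerDifferential k B := fun i =>
    KaehlerDifferential.map k k S B (linearCombination S (KaehlerDifferential.D k S) (η' i))
  have hz : ∑ i, algebraMap S B ⟨f i, hfS i⟩ • z i = 0 := by
    have h0 := congrArg (KaehlerDifferential.map k k S B) hν
    rw [map_sum, map_zero] at h0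
    simpa only [map_smul, algebraMap_smul, z] using h0
  have hxz : ∀ i, KaehlerDifferential.map k k B A (z i) = x i := fun i => by
    rw [← hη i, ← hη' i]
    simp only [z]
    generalize η' i = e
    induction e using Finsupp.induction_linear with
    | zero => simp
    | add u v hu hv => simp only [map_add, hu, hv]
    | single a b =>
      rw [pushSub_single, linearCombination_single, linearCombination_single, map_smul,
        KaehlerDifferential.map_D, ← algebraMap_smul B b, map_smul, KaehlerDifferential.map_D,
        ← algebraMap_smul A (algebraMap S B b), ← IsScalarTower.algebraMap_apply S B A,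
        ← IsScalarTower.algebraMap_apply S B A]
      rfl
  obtain ⟨m, a, y, hy, ha⟩ := Module.Flat.isTrivialRelation_of_sum_smul_eq_zero hz
  refine ⟨m, fun i j => algebraMap B A (a i j), fun j => KaehlerDifferential.map k k B A (y j),
    fun i => ?_, fun j => ?_⟩
  · rw [← hxz i, hy i, map_sum]
    simp only [map_smul, algebraMap_smul]
  · have h0 := congrArg (algebraMap B A) (ha j)
    simp only [map_sum, map_mul, map_zero, ← IsScalarTower.algebraMap_apply S B A] at h0
    exact h0

/-- A regular Noetherian algebra over a perfect field is geometrically regular. -/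
theorem geomRegular_of_perfectField [PerfectField k] [IsNoetherianRing A] [IsRegularRing A] :
    CAlg.IsGeometricallyRegular k A := fun k' _ _ hfin => by
  haveI := hfin
  haveI := Groth.Agent.GeomProp.geomReduced_of_perfectField k k'
  haveI : IsNoetherianRing (k' ⊗[k] A) := FlatDepth.isNoetherianRing_tensor_essFinite k A k'
  haveI : IsNoetherianRing (A ⊗[k] k') :=
    isNoetherianRing_of_ringEquiv (k' ⊗[k] A) (Algebra.TensorProduct.comm k k' A).toRingEquiv
  have hr := (Groth.Agent.S2692.result k A k' (Or.inr inferInstance)).1 inferInstance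
    (fun k'' _ _ hk'' => haveI := hk''; Groth.Agent.GeomProp.regular_of_geomReduced_field k k' k'')
  exact FlatDepth.isRegularRing_of_equiv _ _ (Algebra.TensorProduct.comm k A k').toRingEquiv hr

end

/-- `Ω_{A/ℤ}` is flat for a regular local ring of characteristic `p`. -/
theorem flat_kaehler_int (p : ℕ) [Fact p.Prime] (A : Type u) [CommRing A] [IsRegularLocalRing A]
    [CharP A p] : Module.Flat A (KaehlerDifferential ℤ A) := by
  haveI := SerreReg.isRegularRing_of_isRegularLocalRing A
  let k := ULift.{u} (ZMod p)
  letI : Algebra k A :=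
    ((ZMod.castHom dvd_rfl A).comp (ULift.ringEquiv : k ≃+* ZMod p).toRingHom).toAlgebra
  haveI : PerfectField k := PerfectField.ofFinite
  have hs : Function.Surjective (algebraMap ℤ k) := fun c => by
    obtain ⟨n, hn⟩ := ZMod.intCast_surjective c.down
    exact ⟨n, ULift.ext _ _ (hn ▸ rfl)⟩
  haveI := KaehlerDifferential.subsingleton_of_surjective ℤ k hs
  haveI := flat_kaehler_of_indSmooth (Popescu.indSmooth_field (geomRegular_of_perfectField (k := k) (A := A)))
  refine Module.Flat.of_linearEquiv (LinearEquiv.ofBijective (KaehlerDifferential.map ℤ k A A)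
    ⟨(injective_iff_map_eq_zero _).2 fun x hx => ?_, KaehlerDifferential.map_surjective ℤ k A⟩)
  obtain ⟨w, rfl⟩ := (KaehlerDifferential.exact_mapBaseChange_map ℤ k A x).1 hx
  rw [Subsingleton.elim w 0, map_zero]

end Groth.Agent.KahFlat
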